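import Cfsg.Agent.Lib.Recog.SporBound.Sound
import Cfsg.Agent.Lib.Recog.SporBound.McLCentE.Tree0

set_option autoImplicit false
set_option maxRecDepth 20000

/-! Generated closure certificate: N(E) over its part in C(t), for McL (owner: helper25). -/

namespace CfsgLib.Recog.SporBound.McLCentE
open CfsgLib.Recog.SporBound

noncomputable def factTree : Q (ℕ) := (.node ft0 ft1 (.leaf 0) (.leaf 0))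
noncomputable def nodeTree : Q (ℕ) := ct0
noncomputable def stepTree : Q (List ℕ) := (.node st0 st1 st2 (.leaf []))
noncomputable def finalTree : Q (List ℕ) := (.node et0 et1 (.leaf []) (.leaf []))

/-- The certificate. -/
noncomputable def cert : Cert where
  n := 15
  nd := 93
  nf := 242
  kl := [0, 1, 2, 6, 8, 3]
  facts := factTree
  cn := nodeTree
  steps := stepTree
  finals := finalTree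
  rels := [[0, 0], [1, 1], [2, 2], [3, 3], [4, 4], [5, 5], [6, 6], [7, 7], [8, 8], [0, 8, 0, 8], [1, 2, 1, 2, 1, 2, 1, 2], [1, 6, 1, 6, 1, 6], [1, 8, 1, 8], [2, 6, 2, 6], [2, 8, 2, 8, 2, 8], [6, 8, 6, 8, 6, 8], [0, 1, 2, 6, 0, 2, 6, 1], [0, 1, 2, 6, 0, 6, 2, 1], [0, 2, 8, 2, 8, 2, 0, 8], [1, 2, 6, 2, 1, 6, 1, 6], [0, 2, 0, 2, 8, 6, 0, 6, 8], [0, 1, 0, 1, 0, 2, 6, 0, 6, 2], [0, 1, 0, 1, 2, 0, 2, 6, 0, 6], [0, 1, 0, 1, 2, 0, 6, 2, 0, 6], [0, 1, 8, 2, 6, 0, 2, 6, 8, 1], [1, 2, 1, 6, 8, 2, 1, 2, 8, 6], [0, 1, 0, 2, 1, 8, 2, 1, 2, 8, 2], [0, 1, 2, 0, 8, 2, 0, 2, 8, 2, 1], [2, 3, 2, 3, 2, 3], [6, 3, 6, 3, 6, 3, 6, 3, 6, 3], [8, 3, 8, 3, 8, 3], [0, 2, 3, 0, 2, 3, 0, 2, 3], [0, 8, 3, 0, 8, 3, 0, 8, 3], [1, 2, 3, 1, 2, 3, 1, 2, 3], [1, 6, 3, 1, 6, 3, 1, 6, 3, 1, 6, 3,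 1, 6, 3], [2, 1, 3, 2, 1, 3, 2, 1, 3], [2, 6, 3, 2, 6, 3, 2, 6, 3, 2, 6, 3, 2, 6, 3], [6, 8, 3, 6, 8, 3, 6, 8, 3, 6, 8, 3, 6, 8, 3], [8, 6, 3, 8, 6, 3, 8, 6, 3, 8, 6, 3, 8, 6, 3], [0, 2, 0, 3, 0, 2, 0, 3, 0, 2, 0, 3], [1, 2, 1, 3, 1, 2, 1, 3, 1, 2, 1, 3], [1, 2, 6, 3, 1, 2, 6, 3, 1, 2, 6, 3, 1, 2, 6, 3, 1, 2, 6, 3], [2, 6, 8, 3, 2, 6, 8, 3, 2, 6, 8, 3, 2, 6, 8, 3, 2, 6, 8, 3], [6, 0, 2, 3, 6, 0, 2, 3, 6, 0, 2, 3, 6, 0, 2, 3, 6, 0, 2, 3], [8, 2, 6, 3, 8, 2, 6, 3, 8, 2, 6, 3, 8, 2, 6, 3, 8, 2, 6, 3], [0, 1, 0, 2, 3, 0, 1, 0, 2, 3, 0, 1, 0, 2, 3], [1, 0, 1, 8, 3, 1, 0, 1, 8, 3, 1, 0, 1, 8, 3], [2, 0, 2, 8, 3, 2, 0, 2, 8, 3, 2, 0, 2, 8, 3], [3, 2, 1, 6, 0, 6, 1, 2, 3, 6, 0, 6, 0], [3, 2, 1, 2, 3, 1, 0, 2, 1, 2, 0], [3, 0, 1, 2, 0, 1, 2, 8, 2, 3, 8, 6, 0, 6, 1, 2]]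
  subs := [[0], [1], [2], [6], [8]]

/-- Chains of the traced words. -/
noncomputable def closers : List ℕ := []

end CfsgLib.Recog.SporBound.McLCentE
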